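import Groth.Agent.H23.PnChart
import Groth.Prelude.Def_BlowUp2
import Mathlib.RingTheory.PrincipalIdealDomain
import Mathlib.Algebra.Polynomial.FieldDivision

/-! Nonzero ideal sheaves on the projective line are effective Cartier. -/

noncomputable section

set_option linter.style.haveILetI false
set_option linter.unusedSectionVars false
set_option backward.isDefEq.respectTransparency false
set_option backward.isDefEq.respectTransparency.types false

universe u

open CategoryTheory CategoryTheory.Limits AlgebraicGeometry TopologicalSpace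
open HomogeneousLocalization (Away)

namespace Groth.Agent.RatLift

open Groth.Agent.ZetaLib

variable (k : Type u) [Field k]

/-- The coordinate rings of the standard charts of the projective line are polynomial rings in one variable. -/
theorem chart_isPrincipalIdealRing (i : Fin (1 + 1)) :
    IsPrincipalIdealRing (Away (CohB1.polyGrading 1 k) (MvPolynomial.X i : MvPolynomial (Fin (1 + 1)) k)) := by
  haveI hs : Subsingleton (H23.PnChart.Idx.{u} 1 i) :=
    ⟨fun a b => ULift.ext _ _ (Subtype.ext (Fin.ext (by
      have ha := a.down.2; have hb := b.down.2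
      simp only [ne_eq, Fin.ext_iff] at ha hb
      omega)))⟩
  have hne : Nonempty (H23.PnChart.Idx.{u} 1 i) :=
    ⟨⟨⟨(Fin.succAbove i 0), Fin.succAbove_ne _ _⟩⟩⟩
  letI : Unique (H23.PnChart.Idx.{u} 1 i) := uniqueOfSubsingleton hne.some
  let e := (MvPolynomial.uniqueAlgEquiv k (H23.PnChart.Idx.{u} 1 i)).toRingEquiv.symm.trans
    (RingEquiv.ofBijective (H23.PnChart.fromChart.{u} 1 k i) ⟨H23.PnChart.fromChart_injective 1 k i,
      H23.PnChart.fromChart_surjective 1 k i⟩)
  exact IsPrincipalIdealRing.of_surjective e.toRingHom e.surjective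

/-- An ideal sheaf on the projective line with proper support is effective Cartier. -/
theorem isEffCartier_of_support_ne (I : (CohB1.ProjSpace 1 k).IdealSheafData)
    (h : (I.support : Set (CohB1.ProjSpace 1 k)) ≠ Set.univ) : BlowUp.IsEffCartierIdeal I := by
  haveI := H23.PnChart.isIntegral_projSpace 1 k
  intro x
  obtain ⟨i, hi⟩ := ZetaLib.exists_mem_chart (n := 1) (k := k) x
  let U : (CohB1.ProjSpace 1 k).affineOpens := ⟨chart 1 k i ''ᵁ ⊤, (isAffineOpen_top _).image_of_isOpenImmersion _⟩
  have hxU : x ∈ U.1 := by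
    obtain ⟨y, rfl⟩ := hi
    exact ⟨y, trivial, rfl⟩
  haveI : Nonempty U.1 := ⟨⟨x, hxU⟩⟩
  haveI hU : IsPrincipalIdealRing Γ(CohB1.ProjSpace 1 k, U.1) := by
    haveI := chart_isPrincipalIdealRing k i
    exact IsPrincipalIdealRing.of_surjective
      ((Scheme.ΓSpecIso _).inv ≫ ((chart 1 k i).appIso ⊤).inv).hom
      (ConcreteCategory.bijective_of_isIso _).2
  obtain ⟨g, hg⟩ := (hU.principal (I.ideal U)).principal
  refine ⟨U, hxU, g, mem_nonZeroDivisors_of_ne_zero fun h0 => h ?_, hg⟩
  rw [h0, Ideal.submodule_span_eq, Ideal.span_singleton_eq_bot.mpr rfl] at hg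
  have hd := I.coe_support_inter U
  rw [hg, Submodule.bot_coe] at hd
  apply Set.eq_univ_of_univ_subset
  have hdense : Dense (U.1 : Set (CohB1.ProjSpace 1 k)) := U.1.isOpen.dense ⟨x, hxU⟩
  rw [← hdense.closure_eq]
  refine closure_minimal (fun y hy => ?_) I.support.isClosed
  refine (hd.ge ⟨?_, hy⟩).1
  simp

end Groth.Agent.RatLift
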