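import Groth.Prelude.Def_Curv2
import Groth.Agent.Lib.ProjRegularPn
import Groth.Agent.Lib.CurveTensor
import Groth.Agent.Snapper.DimVanish
import Groth.Agent.PnCoh.Finite.SerreVanishing
import Groth.Agent.PnCoh.Chow.Pairing
import Groth.Agent.S10829
import Groth.Agent.SheafHomX.Coherent
import Mathlib.Algebra.Homology.ShortComplex.Abelian

/-! Castelnuovo–Mumford regularity along a complex with small homology. -/

set_option linter.style.haveILetI false
set_option linter.unusedSectionVars false
set_option backward.isDefEq.respectTransparency false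
set_option backward.isDefEq.respectTransparency.types false
set_option maxHeartbeats 800000

universe u

open CategoryTheory CategoryTheory.Limits AlgebraicGeometry

namespace Groth.Agent.RatLift

section Abelian

variable {C : Type*} [Category C] [Abelian C]

/-- The sequence `kernel → X → image`. -/
theorem shortExact_image {A B : C} (φ : A ⟶ B) :
    (ShortComplex.mk (kernel.ι φ) (Abelian.factorThruImage φ)
      ((cancel_mono (Abelian.image.ι φ)).1 (by rw [Category.assoc, Abelian.image.fac, kernel.condition, zero_comp]))).ShortExact :=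
  { exact := ShortComplex.exact_of_f_is_kernel _ (KernelFork.IsLimit.ofι' _ _ fun {T} t ht =>
      ⟨kernel.lift φ t (by rw [← Abelian.image.fac φ, reassoc_of% ht, zero_comp]), kernel.lift_ι _ _ _⟩)
    mono_f := inferInstance
    epi_g := inferInstance }

/-- The sequence `image → kernel → homology` of a short complex. -/
theorem exists_homology_sequence (S : ShortComplex C) :
    ∃ (a : Abelian.image S.f ⟶ kernel S.g) (b : kernel S.g ⟶ S.homology) (w : a ≫ b = 0),
      (ShortComplex.mk a b w).ShortExact := by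
  let t : S.X₁ ⟶ kernel S.g := kernel.lift S.g S.f S.zero
  let a : Abelian.image S.f ⟶ kernel S.g := kernel.lift S.g (Abelian.image.ι S.f) (by
    rw [← cancel_epi (Abelian.factorThruImage S.f), reassoc_of% Abelian.image.fac S.f, S.zero, comp_zero])
  have hta : Abelian.factorThruImage S.f ≫ a = t := by
    rw [← cancel_mono (kernel.ι S.g)]
    simp [a, t]
  haveI : Mono a := by
    haveI : Mono (a ≫ kernel.ι S.g) := by rw [kernel.lift_ι]; infer_instance
    exact mono_of_mono a (kernel.ι S.g)
  let h : S.LeftHomologyData := ShortComplex.LeftHomologyData.ofHasKernelOfHasCokernel S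
  let e : cokernel t ≅ S.homology := (h.homologyIso).symm
  have w : a ≫ cokernel.π t ≫ e.hom = 0 := by
    rw [← cancel_epi (Abelian.factorThruImage S.f), reassoc_of% hta, cokernel.condition_assoc, zero_comp, comp_zero]
  refine ⟨a, cokernel.π t ≫ e.hom, w, ?_⟩
  have w0 : a ≫ cokernel.π t = 0 := by
    rw [← cancel_mono e.hom, Category.assoc, w, zero_comp]
  refine ShortComplex.shortExact_of_iso (S₁ := ShortComplex.mk a (cokernel.π t) w0)
    (ShortComplex.isoMk (Iso.refl _) (Iso.refl _) e (by simp) (by simp)) ?_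
  exact ShortComplex.ShortExact.mk' (ShortComplex.exact_of_g_is_cokernel _
    (CokernelCofork.IsColimit.ofπ' _ _ fun {T} u hu =>
      ⟨cokernel.desc t u (by rw [← hta, Category.assoc, hu, comp_zero]), cokernel.π_desc _ _ _⟩)) inferInstance inferInstance

end Abelian

variable {k : Type u} [Field k] {n : ℕ}

open Groth.Agent.PnCoh.Finite

theorem subsingleton_HH_X₃ {X : Scheme.{u}} {S : ShortComplex X.Modules} (hS : S.ShortExact) (i : ℕ)
    (h₂ : Subsingleton (Coh.HH X S.X₂ i)) (h₁ : Subsingleton (Coh.HH X S.X₁ (i + 1))) :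
    Subsingleton (Coh.HH X S.X₃ i) :=
  subsingleton_H_X₃ (T := S.map (QCoh.toAbFunctor X)) (QCoh.toAb_shortExact hS) i h₂ h₁

local notation "P" => CohB1.ProjSpace n k
noncomputable abbrev Tw (F : (CohB1.ProjSpace n k).Modules) (d : ℤ) : (CohB1.ProjSpace n k).Modules :=
  CohB1.tensorMod F (Twist.twistProjSpace n k d)

theorem twist_shortExact {S : ShortComplex (P).Modules} (hS : S.ShortExact) (d : ℤ) :
    ∃ S' : ShortComplex (P).Modules, S'.ShortExact ∧ S'.X₁ = Tw S.X₁ d ∧ S'.X₂ = Tw S.X₂ d ∧ S'.X₃ = Tw S.X₃ d :=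
  ⟨_, shortExact_twistBy (𝒜 := CohB1.polyGrading n k) (ProjRegular.coords k n) ProjRegular.coords_mem
    ProjRegular.coords_cover d hS, rfl, rfl, rfl⟩

/-- Twists of sheaves with support of dimension at most `r` have no cohomology above `r`. -/
theorem subsingleton_twist_of_dim {F : (P).Modules} (hF : Coh.IsCoh F) {r : ℕ}
    (hd : topologicalKrullDim (CohB1.support F) ≤ (r : WithBot ℕ∞)) (d : ℤ) {i : ℕ} (hi : r < i) :
    Subsingleton (Coh.HH P (Tw F d) i) := by
  haveI : IsNoetherian P := Proj16.isNoetherian_proj _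
  haveI : IsProper (CohB1.ProjSpace.toSpec n k) := PnCoh.Chow.isProper_toSpec n k
  haveI : (P).IsSeparated := ⟨by rw [← terminal.comp_from (CohB1.ProjSpace.toSpec n k)]; infer_instance⟩
  have hQ := ProjRegular.isCoh_twistBy hF d
  refine Snapper.subsingleton_HH_of_dim_lt (r + 1) ⟨CohB1.support F, QCoh.isClosed_support_of_isFT hF.1 hF.2⟩
    (lt_of_le_of_lt hd (by exact_mod_cast Nat.lt_succ_self r)) _ hQ.1 (fun x hx => ?_) i hi
  by_contra h0
  haveI hs : Subsingleton (F.presheaf.stalk x) := not_not.1 h0
  refine hx ?_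
  have hT : Subsingleton (TensorProduct ((P).presheaf.stalk x)
      (F.presheaf.stalk x) ((Twist.twistProjSpace n k d).presheaf.stalk x)) :=
    subsingleton_of_forall_eq 0 fun t => by
      induction t using TensorProduct.induction_on with
      | zero => rfl
      | tmul a b => rw [Subsingleton.elim a 0, TensorProduct.zero_tmul]
      | add a b ha hb => rw [ha, hb, add_zero]
  exact @Equiv.subsingleton _ _ (KFlatLib.stalkTensorIso x F (Twist.twistProjSpace n k d)).symm.toLinearEquiv.toEquiv hT

theorem subsingleton_twist_high {F : (P).Modules} (hF : Coh.IsCoh F) (d : ℤ) {i : ℕ} (hi : n < i) :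
    Subsingleton (Coh.HH P (Tw F d) i) :=
  subsingleton_twist_of_dim hF ((topologicalKrullDim_subspace_le P _).trans (S10829.result k n).le) d hi

theorem regular_all {F : (P).Modules} (hF : Coh.IsCoh F) {m : ℤ} (h : Curv2.IsMRegular k n F m) (i : ℕ) (hi : 1 ≤ i) :
    Subsingleton (Coh.HH P (Tw F (m - i)) i) := by
  by_cases hin : i ≤ n
  · exact h i hi hin
  · exact subsingleton_twist_high hF _ (not_le.1 hin)

/-- Regularity of the image and cokernel of the last differential. -/
theorem regular_of_complex (E : ChainComplex (P).Modules ℕ) (t : ℕ) (hbdd : ∀ s : ℕ, t < s → IsZero (E.X s))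
    (hcoh : ∀ s : ℕ, Coh.IsCoh (E.X s)) (d : ℤ) (hreg : ∀ s : ℕ, Curv2.IsMRegular k n (E.X s) (d + s))
    (hsupp : ∀ i : ℕ, 0 < i → topologicalKrullDim (CohB1.support (E.homology i)) ≤ 1) :
    Curv2.IsMRegular k n (cokernel (E.d 1 0)) d ∧ Curv2.IsMRegular k n (Abelian.image (E.d 1 0)) (d + 1) := by
  haveI : IsNoetherian P := Proj16.isNoetherian_proj _
  have hB : ∀ s, Coh.IsCoh (Abelian.image (E.d (s + 1) s)) := fun s =>
    QCoh.isCoh_of_mono (Abelian.image.ι _) (hcoh s)
      (QCoh.isQCoh_kernel (hcoh s).1 (QCoh.isQCoh_cokernel (hcoh (s + 1)).1 (hcoh s).1 _) _)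
  have hZ : ∀ s, Coh.IsCoh (kernel (E.d (s + 1) s)) := fun s =>
    QCoh.isCoh_of_mono (kernel.ι _) (hcoh (s + 1)) (QCoh.isQCoh_kernel (hcoh _).1 (hcoh s).1 _)
  have key : ∀ (m s : ℕ), t ≤ s + m → ∀ i : ℕ, 1 ≤ i →
      Subsingleton (Coh.HH P (Tw (Abelian.image (E.d (s + 1) s)) (d + s + 1 - i)) i) := by
    intro m
    induction m with
    | zero =>
      intro s hs i hi
      have hz : IsZero (Abelian.image (E.d (s + 1) s)) :=
        IsZero.of_epi (Abelian.factorThruImage (E.d (s + 1) s)) (hbdd (s + 1) (by omega))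
      refine subsingleton_twist_of_dim (hB s) (r := 0) ?_ _ (by omega)
      refine le_of_eq_of_le ?_ bot_le
      haveI : IsEmpty (CohB1.support (Abelian.image (E.d (s + 1) s))) := ⟨fun x => x.2 (by
        haveI := (Functor.map_isZero (DerSch.stalkFunctor P x.1) hz)
        exact ModuleCat.subsingleton_of_isZero this)⟩
      exact @Order.krullDim_eq_bot _ _ ⟨fun C => isEmptyElim C.2.nonempty.some⟩
    | succ m ih =>
      intro s hs i hi
      -- the next image and cycles
      have hnext := ih (s + 1) (by omega)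
      let S := E.sc' (s + 1 + 1) (s + 1) s
      have hH : topologicalKrullDim (CohB1.support S.homology) ≤ 1 ∧ Coh.IsCoh S.homology := by
        obtain ⟨a, b, w, hS⟩ := exists_homology_sequence S
        have he : Nonempty (E.homology (s + 1) ≅ S.homology) :=
          ⟨ShortComplex.homologyMapIso (E.isoSc' (s + 1 + 1) (s + 1) s (by simp) (by simp))⟩
        obtain ⟨e⟩ := he
        refine ⟨?_, ?_⟩
        · have hsub : CohB1.support S.homology ⊆ CohB1.support (E.homology (s + 1)) := fun x hx h => hx (by
            exact @Equiv.subsingleton _ _ ((DerSch.stalkFunctor P x).mapIso e).symm.toLinearEquiv.toEquiv h)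
          exact (H23.TopDim.dim_le_dim_of_subset hsub).trans (hsupp (s + 1) (by omega))
        · haveI := hS.epi_g
          haveI := hS.mono_f
          exact SheafHomX.isCoh_of_iso (IsColimit.coconePointUniqueUpToIso (cokernelIsCokernel a) hS.gIsCokernel)
            (QCoh.isCoh_cokernel (hB (s + 1)).1 (hZ s) a)
      obtain ⟨a, b, w, hseq⟩ := exists_homology_sequence S
      have hZv : ∀ j : ℕ, 2 ≤ j → Subsingleton (Coh.HH P (Tw (kernel (E.d (s + 1) s)) (d + (s + 1 : ℕ) + 1 - j)) j) := by
        intro j hj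
        obtain ⟨S', hS', h1, h2, h3⟩ := twist_shortExact hseq (d + (s + 1 : ℕ) + 1 - j)
        have := QCoh.subsingleton_HH_X₂ hS' j (h1 ▸ hnext j (by omega))
          (h3 ▸ subsingleton_twist_of_dim hH.2 (r := 1) hH.1 _ (by omega))
        rwa [h2] at this
      obtain ⟨S', hS', h1, h2, h3⟩ := twist_shortExact (shortExact_image (E.d (s + 1) s)) (d + s + 1 - i)
      have hfin := subsingleton_HH_X₃ hS' i
        (by
          rw [h2]
          have h := regular_all (hcoh (s + 1)) (hreg (s + 1)) i hi
          rwa [show d + ((s + 1 : ℕ) : ℤ) - i = d + s + 1 - i by push_cast; ring] at h)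
        (by
          rw [h1]
          have h := hZv (i + 1) (by omega)
          rwa [show d + ((s + 1 : ℕ) : ℤ) + 1 - ((i + 1 : ℕ) : ℤ) = d + s + 1 - i by push_cast; ring] at h)
      rwa [h3] at hfin
  have hB0 := key t 0 (by omega)
  refine ⟨fun i hi hin => ?_, fun i hi hin => ?_⟩
  · have hseq : (ShortComplex.mk (Abelian.image.ι (E.d 1 0)) (cokernel.π (E.d 1 0)) (kernel.condition _)).ShortExact :=
      { exact := ShortComplex.exact_of_f_is_kernel _ (kernelIsKernel (cokernel.π (E.d 1 0)))
        mono_f := inferInstance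
        epi_g := inferInstance }
    obtain ⟨S', hS', h1, h2, h3⟩ := twist_shortExact hseq (d - i)
    have hfin := subsingleton_HH_X₃ hS' i
      (by
        rw [h2]
        have h := regular_all (hcoh 0) (hreg 0) i hi
        rwa [show d + ((0 : ℕ) : ℤ) - i = d - i by simp] at h)
      (by
        rw [h1]
        have h := hB0 (i + 1) (by omega)
        rwa [show d + ((0 : ℕ) : ℤ) + 1 - ((i + 1 : ℕ) : ℤ) = d - i by push_cast; ring] at h)
    rwa [h3] at hfin
  · have h := hB0 i hi
    rwa [show d + ((0 : ℕ) : ℤ) + 1 - (i : ℤ) = d + 1 - i by simp] at h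

end Groth.Agent.RatLift
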