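import Groth.Agent.QCoh.DeligneHom
import Groth.Agent.QCoh.DevissageSum
import Groth.Agent.QCoh.DevissageP
import Groth.Agent.QCoh.Stalk
import Groth.Agent.HomShX.Basic
import Groth.Agent.ExtShX.FundStalk

/-! Coherent modules on Noetherian integral schemes are quotients of torsion-free ones. -/

noncomputable section

set_option linter.style.haveILetI false
set_option linter.unusedSectionVars false
set_option backward.isDefEq.respectTransparency false
set_option backward.isDefEq.respectTransparency.types false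

universe u

open CategoryTheory CategoryTheory.Limits AlgebraicGeometry TopologicalSpace Opposite
open RefHull (stalkMapₗ)

namespace Groth.Agent.RatLift

variable {X : Scheme.{u}} {F : X.Modules}

/-- The morphism on an open subscheme defined by a section. -/
def secHom {U : X.Opens} (s : Γ(F, U)) :
    (Scheme.Modules.restrictFunctor U.ι).obj (Coh.structureModule X) ⟶
      (Scheme.Modules.restrictFunctor U.ι).obj F :=
  ⟨PresheafOfModules.homMk
    { app := fun W => AddCommGrpCat.ofHom (show Γ(X, U.ι ''ᵁ W.unop) →+ Γ(F, U.ι ''ᵁ W.unop) from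
        (smulAddHom Γ(X, U.ι ''ᵁ W.unop) Γ(F, U.ι ''ᵁ W.unop)).flip
          (F.presheaf.map (homOfLE (U.ι_image_le W.unop)).op s))
      naturality := fun V W i => by
        ext r
        refine Eq.trans ?_ (Scheme.Modules.map_smul F _ _ _).symm
        rw [← CategoryTheory.ConcreteCategory.comp_apply, ← F.presheaf.map_comp]
        rfl }
    (fun W r m => @mul_smul Γ(X, U.ι ''ᵁ W.unop) Γ(F, U.ι ''ᵁ W.unop) _ _ _ _ _)⟩

theorem secHom_app {U : X.Opens} (s : Γ(F, U)) (W : (U : Scheme.{u}).Opens)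
    (r : Γ(X, U.ι ''ᵁ W)) :
    (secHom s).app W r = (r • F.presheaf.map (homOfLE (U.ι_image_le W)).op s : Γ(F, U.ι ''ᵁ W)) := rfl

/-- A morphism out of a power of an ideal hitting a given section near a given point. -/
theorem exists_hom_hit [IsNoetherian X] (hF : Coh.IsQCoh F) {U : X.Opens} (s : Γ(F, U)) :
    ∃ (J : X.IdealSheafData) (ψ : (Dual3.idealMul J).obj (Coh.structureModule X) ⟶ F),
      ∀ (x : X) (hx : x ∈ U), F.presheaf.germ U x hx s ∈ LinearMap.range (stalkMapₗ ψ x) := by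
  let I := Scheme.IdealSheafData.vanishingIdeal ⟨((U : Set X)ᶜ), U.2.isClosed_compl⟩
  have hU : (U : Set X) = (I.support : Set X)ᶜ := by
    rw [Scheme.IdealSheafData.coe_support_vanishingIdeal, Closeds.coe_mk, compl_compl]
  obtain ⟨n, ψ, hψ⟩ := QCoh.exists_hom_idealPow hF QCoh.isCoh_structureModule' I U hU (secHom s)
  refine ⟨I ^ n, ψ, fun x hx => ?_⟩
  obtain ⟨_, ⟨V, hV, rfl⟩, hxV, hVU⟩ := X.isBasis_affineOpens.exists_subset_of_mem_open hx U.2
  have htop : (I ^ n).ideal ⟨V, hV⟩ = ⊤ := by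
    rw [Scheme.IdealSheafData.ideal_pow, Pi.pow_apply]
    suffices I.ideal ⟨V, hV⟩ = ⊤ by rw [this, Ideal.top_pow]
    rw [← PrimeSpectrum.zeroLocus_empty_iff_eq_top, ← Set.image_eq_empty (f := hV.fromSpec),
      hV.fromSpec_image_zeroLocus, ← I.coe_support_inter ⟨V, hV⟩]
    exact Set.eq_empty_iff_forall_notMem.2 fun y hy => hU.le (hVU hy.2) hy.1
  obtain ⟨y, hy⟩ : ∃ y, (Dual3.idealMulι (I ^ n) (Coh.structureModule X)).app V y =
      (show Γ(Coh.structureModule X, V) from (1 : Γ(X, V))) := by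
    have h := (QCoh.range_idealMul (I ^ n) QCoh.isQCoh_structureModule hV).ge
    rw [htop, Submodule.top_smul] at h
    exact h Submodule.mem_top
  have he : U.ι ''ᵁ (U.ι ⁻¹ᵁ V) = V := by
    rw [U.ι.image_preimage_eq_opensRange_inf, Scheme.Opens.opensRange_ι, inf_eq_right.2 (show V ≤ U from hVU)]
  have key : ∀ (W : X.Opens), U.ι ''ᵁ (U.ι ⁻¹ᵁ V) = W → ∀ (hWU : W ≤ U)
      (z : Γ((Dual3.idealMul (I ^ n)).obj (Coh.structureModule X), W)),
      (Dual3.idealMulι (I ^ n) (Coh.structureModule X)).app W z =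
        (show Γ(Coh.structureModule X, W) from (1 : Γ(X, W))) →
      ψ.app W z = F.presheaf.map (homOfLE hWU).op s := by
    rintro _ rfl hWU z hz
    have h := congrArg (fun φ => φ.app (U.ι ⁻¹ᵁ V) z) hψ
    refine h.trans ?_
    show (secHom s).app (U.ι ⁻¹ᵁ V) ((Dual3.idealMulι (I ^ n) (Coh.structureModule X)).app _ z) = _
    rw [hz]
    refine (secHom_app s _ _).trans ?_
    exact @one_smul Γ(X, U.ι ''ᵁ (U.ι ⁻¹ᵁ V)) Γ(F, U.ι ''ᵁ (U.ι ⁻¹ᵁ V)) _ _ _
  refine ⟨((Dual3.idealMul (I ^ n)).obj (Coh.structureModule X)).presheaf.germ V x hxV y, ?_⟩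
  rw [RefHull.stalkMapₗ_germ, key V he hVU y hy, TopCat.Presheaf.germ_res_apply]

/-- The stalks of the structure sheaf have no torsion. -/
theorem eq_zero_of_smul_structure [IsIntegral X] {x : X} {c : X.presheaf.stalk x}
    {w : (Coh.structureModule X).presheaf.stalk x} (hc : c ≠ 0) (h : c • w = 0) : w = 0 := by
  obtain ⟨W₁, h₁, b₁, rfl⟩ := X.presheaf.exists_germ_eq (x := x) c
  obtain ⟨W₂, h₂, m₂, rfl⟩ := TopCat.Presheaf.exists_germ_eq (Coh.structureModule X).presheaf w
  have hW : x ∈ W₁ ⊓ W₂ := ⟨h₁, h₂⟩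
  rw [← X.presheaf.germ_res_apply (homOfLE inf_le_left) x hW b₁,
    ← (Coh.structureModule X).presheaf.germ_res_apply (homOfLE inf_le_right) x hW m₂,
    ← QCoh.germ_smul'] at h
  rw [← X.presheaf.germ_res_apply (homOfLE inf_le_left) x hW b₁] at hc
  rw [← (Coh.structureModule X).presheaf.germ_res_apply (homOfLE inf_le_right) x hW m₂]
  generalize X.presheaf.map (homOfLE inf_le_left).op b₁ = b at h hc ⊢
  generalize (Coh.structureModule X).presheaf.map (homOfLE inf_le_right).op m₂ = m at h hc ⊢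
  obtain ⟨W, hxW, i, _, hi⟩ := (Coh.structureModule X).presheaf.germ_eq x hW hW _ 0 (h.trans (map_zero _).symm)
  have hi' : X.presheaf.map i.op (b * (show Γ(X, W₁ ⊓ W₂) from m)) = 0 := hi.trans (map_zero _)
  have h0 : X.presheaf.germ (W₁ ⊓ W₂) x hW (b * (show Γ(X, W₁ ⊓ W₂) from m)) = 0 := by
    rw [← X.presheaf.germ_res_apply i x hxW, hi', map_zero]
  rw [map_mul, mul_eq_zero, or_iff_right hc] at h0
  obtain ⟨W', hxW', i', _, hi2⟩ := X.presheaf.germ_eq x hW hW _ 0 (h0.trans (map_zero _).symm)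
  rw [← (Coh.structureModule X).presheaf.germ_res_apply i' x hxW' m,
    show (Coh.structureModule X).presheaf.map i'.op m = 0 from hi2.trans (map_zero _), map_zero]

/-- Stalks of a finite sum of submodules of the structure sheaf are torsion free. -/
theorem noZeroSMulDivisors_biproduct [IsIntegral X] {β : Type u} [Fintype β] (T : β → X.Modules)
    (ι : ∀ b, T b ⟶ Coh.structureModule X) [∀ b, Mono (ι b)] (x : X) :
    letI := Abelian.hasFiniteBiproducts (C := X.Modules)
    NoZeroSMulDivisors (X.presheaf.stalk x) ((⨁ T).presheaf.stalk x) := by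
  classical
  letI := Abelian.hasFiniteBiproducts (C := X.Modules)
  refine ⟨fun {c z} hcz => or_iff_not_imp_left.2 fun hc => ?_⟩
  have hp : ∀ b, stalkMapₗ (biproduct.π T b) x z = 0 := fun b => by
    apply ExtShX.Fund.stalk_injective_of_mono (ι b) x
    have h := congrArg (stalkMapₗ (biproduct.π T b ≫ ι b) x) hcz
    rw [map_smul, map_zero, HomShX.stalkMapₗ_comp, LinearMap.comp_apply] at h
    rw [map_zero]
    exact eq_zero_of_smul_structure hc h
  have htot : (𝟙 (⨁ T)) = ∑ b, biproduct.π T b ≫ biproduct.ι T b := biproduct.hom_ext _ _ fun j => by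
    rw [Preadditive.sum_comp, Category.id_comp, Finset.sum_eq_single j]
    · rw [Category.assoc, biproduct.ι_π_self, Category.comp_id]
    · intro b _ hb
      rw [Category.assoc, biproduct.ι_π_ne _ hb, comp_zero]
    · exact fun h => absurd (Finset.mem_univ j) h
  have h := congrArg (fun φ => stalkMapₗ φ x z) htot
  simp only [HomShX.stalkMapₗ_id, LinearMap.id_apply] at h
  rw [h]
  suffices ∀ s : Finset β, stalkMapₗ (∑ b ∈ s, biproduct.π T b ≫ biproduct.ι T b) x z = 0 from this _
  intro s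
  obtain ⟨W, hx, m, rfl⟩ := TopCat.Presheaf.exists_germ_eq (⨁ T).presheaf z
  induction s using Finset.induction_on with
  | empty => rw [Finset.sum_empty, HomShX.stalkMapₗ_zero]; rfl
  | insert a s ha ih =>
    rw [Finset.sum_insert ha, RefHull.stalkMapₗ_germ, Scheme.Modules.Hom.add_app]
    refine (map_add ((⨁ T).presheaf.germ W x hx).hom _ _).trans ?_
    refine (congrArg₂ (· + ·) ((RefHull.stalkMapₗ_germ _ x hx m).symm) ((RefHull.stalkMapₗ_germ _ x hx m).symm.trans ih)).trans ?_
    rw [add_zero, HomShX.stalkMapₗ_comp, LinearMap.comp_apply, hp a, map_zero]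

/-- Coherent modules on Noetherian integral schemes are quotients of torsion-free ones. -/
theorem exists_epi_of_torsionFree [IsNoetherian X] [IsIntegral X] (hF : Coh.IsCoh F) :
    ∃ (F' : X.Modules) (π : F' ⟶ F), Coh.IsCoh F' ∧
      (∀ y : X, NoZeroSMulDivisors (X.presheaf.stalk y) (F'.presheaf.stalk y)) ∧ Epi π := by
  classical
  letI := Abelian.hasFiniteBiproducts (C := X.Modules)
  obtain ⟨hq, hfin⟩ := QCoh.isCoh_iff.1 hF
  obtain ⟨t, ht⟩ := isCompact_univ.elim_finite_subcover (fun U : X.affineOpens => (U.1 : Set X))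
    (fun U => U.1.2) (fun x _ => by
      obtain ⟨U, hU, hxU⟩ := QCoh.exists_affine_mem x
      exact Set.mem_iUnion.2 ⟨⟨U, hU⟩, hxU⟩)
  choose g hg using fun U : X.affineOpens => (hfin U).fg_top
  let β := Σ U : {U // U ∈ t}, {s // s ∈ g U.1}
  choose J ψ hψ using fun b : β => exists_hom_hit hq b.2.1
  let T : β → X.Modules := fun b => (Dual3.idealMul (J b)).obj (Coh.structureModule X)
  have hT : ∀ b, Coh.IsCoh (T b) := fun b => QCoh.isCoh_of_mono (Dual3.idealMulι (J b) _)
    QCoh.isCoh_structureModule' (QCoh.isQCoh_idealMul _ QCoh.isQCoh_structureModule)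
  refine ⟨⨁ T, biproduct.desc ψ, QCoh.isCoh_biproduct T hT,
    fun y => noZeroSMulDivisors_biproduct T (fun b => Dual3.idealMulι (J b) _) y, ?_⟩
  refine HomShX.epi_of_stalk _ fun x v => ?_
  obtain ⟨U, hU, hxU⟩ := Set.mem_iUnion₂.1 (ht (Set.mem_univ x))
  suffices hall : ∀ s : Γ(F, U.1), F.presheaf.germ U.1 x hxU s ∈
      LinearMap.range (stalkMapₗ (biproduct.desc ψ) x) by
    letI := QCoh.stalkModule F hxU
    haveI := QCoh.isLocalizedModule_germLin hq U.2 hxU
    obtain ⟨⟨m, c⟩, hmc⟩ := IsLocalizedModule.surj (U.2.primeIdealOf ⟨x, hxU⟩).asIdeal.primeCompl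
      (QCoh.germLin F hxU) v
    have hu := (X.mem_basicOpen _ x hxU).1 ((QCoh.mem_basicOpen_iff_notMem U.2 hxU _).2 c.2)
    have hv : v = (↑hu.unit⁻¹ : X.presheaf.stalk x) • F.presheaf.germ U.1 x hxU m := by
      rw [← show X.presheaf.germ U.1 x hxU c.1 • v = F.presheaf.germ U.1 x hxU m from hmc,
        ← mul_smul, IsUnit.val_inv_mul, one_smul]
    rw [hv]
    exact Submodule.smul_mem _ _ (hall m)
  intro s
  have hs : s ∈ Submodule.span Γ(X, U.1) (g U : Set Γ(F, U.1)) := by rw [hg U]; trivial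
  induction hs using Submodule.span_induction with
  | mem a ha =>
    obtain ⟨w, hw⟩ := hψ ⟨⟨U, hU⟩, ⟨a, ha⟩⟩ x hxU
    refine ⟨stalkMapₗ (biproduct.ι T ⟨⟨U, hU⟩, ⟨a, ha⟩⟩) x w, ?_⟩
    rw [← LinearMap.comp_apply, ← HomShX.stalkMapₗ_comp, biproduct.ι_desc]
    exact hw
  | zero => rw [map_zero]; exact Submodule.zero_mem _
  | add a b _ _ ha hb => rw [map_add]; exact Submodule.add_mem _ ha hb
  | smul r a _ ha => rw [QCoh.germ_smul']; exact Submodule.smul_mem _ _ ha

end Groth.Agent.RatLift
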